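import Cfsg.Agent.Lib.CharDeep.FrobDeg.Setup

/-!
# Coefficients on the centralizer and the trivial-intersection inequality
-/

set_option autoImplicit false

namespace CfsgLib.CharDeep.FrobDeg

open Cfsg CfsgLib CfsgLib.Blocks
open scoped Classical ComplexConjugate

variable {G : Type*} [Group G] [Fintype G] {p : ℕ} [hp : Fact p.Prime] {P : Sylow p G} (D : Setting P)

/-- The multiplicity of `η` in the restriction to the centralizer. -/
noncomputable def co (ψ : IrrCharacter G) (η : IrrCharacter (cen P)) : ℕ :=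
  (Char.IsCharacter.classInner_nat (Char.IsCharacter.restrict (Char.isCharacter_irr ψ) (cen P))
    (Char.isCharacter_irr η)).choose

theorem co_spec (ψ : IrrCharacter G) (η : IrrCharacter (cen P)) :
    classInner (fun c : cen P => (ψ : G → ℂ) c) (η : cen P → ℂ) = co ψ η :=
  (Char.IsCharacter.classInner_nat (Char.IsCharacter.restrict (Char.isCharacter_irr ψ) (cen P))
    (Char.isCharacter_irr η)).choose_spec

theorem apply_cen (ψ : IrrCharacter G) (c : cen P) :
    (ψ : G → ℂ) c = ∑ η : IrrCharacter (cen P), (co ψ η : ℂ) * (η : cen P → ℂ) c := by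
  have h := congrFun (Char.IsClassFunction.eq_sum_irr
    (Char.IsCharacter.isClassFunction (Char.IsCharacter.restrict (Char.isCharacter_irr ψ) (cen P)))) c
  simpa [Finset.sum_apply, co_spec] using h

theorem deg_eq (ψ : IrrCharacter G) :
    charDegree (ψ : G → ℂ) = ∑ η : IrrCharacter (cen P), co ψ η * charDegree (η : cen P → ℂ) := by
  apply Nat.cast_injective (R := ℂ)
  have h := apply_cen (P := P) ψ 1
  rw [OneMemClass.coe_one, irr_one_eq] at h
  rw [h, Nat.cast_sum]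
  simp [irr_one_eq]

/-- The multiplicity of the principal character. -/
noncomputable def M1 (P : Sylow p G) (ψ : IrrCharacter G) : ℕ := co ψ (DegreeTools.oneChar (cen P))

theorem sum_cen (ψ : IrrCharacter G) :
    ∑ c : cen P, (ψ : G → ℂ) c = (Nat.card (cen P) : ℂ) * M1 P ψ := by
  rw [M1, ← co_spec, Cfsg.classInner, ← mul_assoc, mul_inv_cancel₀ Char.card_ne_zero, one_mul]
  simp

theorem sum_normSq_cen (ψ : IrrCharacter G) :
    ∑ c : cen P, (ψ : G → ℂ) c * conj ((ψ : G → ℂ) c)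
      = (Nat.card (cen P) : ℂ) * ((∑ η : IrrCharacter (cen P), co ψ η ^ 2 : ℕ) : ℂ) := by
  rw [Finset.sum_congr rfl (g := fun c : cen P => ∑ η : IrrCharacter (cen P),
    (co ψ η : ℂ) * ((η : cen P → ℂ) c * conj ((ψ : G → ℂ) c))) fun c _ => ?_,
    Finset.sum_comm, Nat.cast_sum, Finset.mul_sum]
  · refine Finset.sum_congr rfl fun η _ => ?_
    have h : ∑ c : cen P, (η : cen P → ℂ) c * conj ((ψ : G → ℂ) c) = (Nat.card (cen P) : ℂ) * co ψ η := by
      have h1 := congrArg conj (co_spec ψ η)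
      rw [map_natCast, Cfsg.classInner, map_mul, map_inv₀, map_natCast, map_sum] at h1
      rw [← h1, ← mul_assoc, mul_inv_cancel₀ Char.card_ne_zero, one_mul]
      refine Finset.sum_congr rfl fun c _ => ?_
      rw [map_mul, Complex.conj_conj, mul_comm]
    rw [← Finset.mul_sum, h]
    push_cast
    ring
  · simp only [← mul_assoc, ← Finset.sum_mul]
    rw [← apply_cen]

/-- Restriction to the complement. -/
def resV (η : IrrCharacter (cen P)) : D.Vc → ℂ := fun v => (η : cen P → ℂ) v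

/-- The coordinates with values in the centralizer. -/
theorem exists_scalar (η : IrrCharacter (cen P)) (z : ↥(P : Subgroup G)) :
    ∃ w : ℂ, ‖w‖ = 1 ∧ ∀ c, (η : cen P → ℂ) (c * D.zC z) = w * (η : cen P → ℂ) c := by
  obtain ⟨w, hw, -⟩ := CentralTrick.exists_scalar_center η.2 (D.zC_central z)
  refine ⟨w, ?_, hw⟩
  have hpow : ∀ n : ℕ, (η : cen P → ℂ) (D.zC z ^ n) = w ^ n * (η : cen P → ℂ) 1 := by
    intro n
    induction n with
    | zero => simp
    | succ n ih => rw [pow_succ, hw, ih, pow_succ]; ring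
  have h1 := hpow (orderOf (D.zC z))
  rw [pow_orderOf_eq_one] at h1
  exact Complex.norm_eq_one_of_pow_eq_one ((mul_eq_right₀ (irr_one_ne_zero η)).1 h1.symm) (orderOf_pos _).ne'

theorem resV_irr (η : IrrCharacter (cen P)) : IsIrrCharacter D.Vc (resV D η) := by
  refine Char.IsCharacter.isIrrCharacter_of_norm_one
    (Char.IsCharacter.restrict (Char.isCharacter_irr η) _) ?_
  have h := DegreeTools.sum_norm_sq η
  have hz : ∀ (z : ↥(P : Subgroup G)) (v : D.V), ‖(η : cen P → ℂ) (D.coord (z, v))‖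
      = ‖(η : cen P → ℂ) ⟨v, D.le v.2⟩‖ := by
    intro z v
    obtain ⟨w, hw, hmul⟩ := exists_scalar D η z
    have e : D.coord (z, v) = (⟨v, D.le v.2⟩ : cen P) * D.zC z := Subtype.ext (by
      rw [Setting.coe_coord, Subgroup.coe_mul]
      exact Subgroup.mem_centralizer_iff.1 (D.le v.2) z z.2)
    rw [e, hmul, norm_mul, hw, one_mul]
  rw [← Fintype.sum_equiv D.coord (fun q => ‖(η : cen P → ℂ) (D.coord q)‖ ^ 2) _ fun q => rfl,
    Fintype.sum_prod_type, Finset.sum_congr rfl fun z _ => Finset.sum_congr rfl fun v _ => by rw [hz z v],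
    Finset.sum_const, Finset.card_univ, nsmul_eq_mul, ← Nat.card_eq_fintype_card, D.card_cen, Nat.cast_mul] at h
  have h2 := mul_left_cancel₀ (Nat.cast_ne_zero.2 (Nat.card_pos (α := ↥(P : Subgroup G))).ne' : (_ : ℝ) ≠ 0) h
  rw [Char.classInner_self, ← Complex.ofReal_one, Complex.ofReal_inj]
  have e : ∑ v : D.Vc, ‖resV D η v‖ ^ 2 = ∑ v : D.V, ‖(η : cen P → ℂ) ⟨v, D.le v.2⟩‖ ^ 2 :=
    Fintype.sum_equiv (Subgroup.subgroupOfEquivOfLe D.le).toEquiv _ _ fun v => rfl
  show (Nat.card D.Vc : ℝ)⁻¹ * ∑ v : D.Vc, ‖resV D η v‖ ^ 2 = 1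
  rw [e, h2, inv_mul_cancel₀ (Nat.cast_ne_zero.2 Nat.card_pos.ne')]

/-- Trivial on the complement. -/
def Triv (η : IrrCharacter (cen P)) : Prop := resV D η = fun _ => 1

theorem sum_resV_mul (η η' : IrrCharacter (cen P)) :
    ∑ v : D.Vc, (η : cen P → ℂ) v * conj ((η' : cen P → ℂ) v)
      = if resV D η = resV D η' then (Nat.card D.Vc : ℂ) else 0 := by
  have h : classInner (resV D η) (resV D η') = if resV D η = resV D η' then 1 else 0 := by
    split_ifs with e
    · rw [← e]; exact Char.classInner_irr_self (resV_irr D η)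
    · exact Char.classInner_irr_ne (resV_irr D η) (resV_irr D η') e
  rw [Cfsg.classInner, inv_mul_eq_iff_eq_mul₀ Char.card_ne_zero] at h
  simp only [resV] at h ⊢
  rw [h, mul_ite, mul_one, mul_zero]

/-- The sum of the multiplicities trivial on the complement. -/
noncomputable def S1 (ψ : IrrCharacter G) : ℕ := ∑ η ∈ Finset.univ.filter (Triv D), co ψ η

/-- The sum of the other multiplicities. -/
noncomputable def S2 (ψ : IrrCharacter G) : ℕ := ∑ η ∈ Finset.univ.filter (fun η => ¬ Triv D η), co ψ η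

theorem triv_oneChar : Triv D (DegreeTools.oneChar (cen P)) := funext fun _ => rfl

theorem sum_V (ψ : IrrCharacter G) : ∑ v : D.Vc, (ψ : G → ℂ) (v : cen P) = (Nat.card D.Vc : ℂ) * S1 D ψ := by
  simp only [apply_cen]
  rw [Finset.sum_comm, S1, Nat.cast_sum, Finset.mul_sum, Finset.sum_filter]
  refine Finset.sum_congr rfl fun η _ => ?_
  rw [← Finset.mul_sum]
  have h := sum_resV_mul D η (DegreeTools.oneChar (cen P))
  simp only [DegreeTools.coe_oneChar, map_one, mul_one, show resV D (DegreeTools.oneChar (cen P)) = fun _ => 1 from rfl] at h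
  rw [h, Triv]
  split_ifs <;> ring

theorem sum_normSq_V_le (ψ : IrrCharacter G) :
    ∃ SV : ℕ, ∑ v : D.Vc, (ψ : G → ℂ) (v : cen P) * conj ((ψ : G → ℂ) (v : cen P)) = (Nat.card D.Vc : ℂ) * SV ∧
      SV ≤ S1 D ψ ^ 2 + S2 D ψ ^ 2 := by
  refine ⟨∑ η : IrrCharacter (cen P), ∑ η' : IrrCharacter (cen P),
    if resV D η = resV D η' then co ψ η * co ψ η' else 0, ?_, ?_⟩
  · simp only [apply_cen, map_sum, map_mul, map_natCast, Finset.sum_mul_sum]
    rw [Finset.sum_comm, Nat.cast_sum, Finset.mul_sum]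
    refine Finset.sum_congr rfl fun η _ => ?_
    rw [Finset.sum_comm, Nat.cast_sum, Finset.mul_sum]
    refine Finset.sum_congr rfl fun η' _ => ?_
    rw [Finset.sum_congr rfl (g := fun v : D.Vc => ((co ψ η : ℂ) * co ψ η') *
      ((η : cen P → ℂ) v * conj ((η' : cen P → ℂ) v))) fun v _ => by ring, ← Finset.mul_sum, sum_resV_mul]
    split_ifs <;> push_cast <;> ring
  · have h : S1 D ψ ^ 2 + S2 D ψ ^ 2 = ∑ η : IrrCharacter (cen P), ∑ η' : IrrCharacter (cen P),
        if Triv D η ↔ Triv D η' then co ψ η * co ψ η' else 0 := by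
      have e1 : S1 D ψ ^ 2 + S2 D ψ ^ 2
          = ∑ η ∈ Finset.univ.filter (Triv D), co ψ η * S1 D ψ
            + ∑ η ∈ Finset.univ.filter (fun η => ¬ Triv D η), co ψ η * S2 D ψ := by
        rw [← Finset.sum_mul, ← Finset.sum_mul, sq, sq]
        rfl
      rw [e1, ← Finset.sum_filter_add_sum_filter_not Finset.univ (Triv D) (f := fun η => ∑ η' : IrrCharacter (cen P),
        if Triv D η ↔ Triv D η' then co ψ η * co ψ η' else 0)]
      congr 1 <;> refine Finset.sum_congr rfl fun η hη => ?_ <;> have hη' := (Finset.mem_filter.1 hη).2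
      · rw [S1, Finset.mul_sum, Finset.sum_filter]
        exact Finset.sum_congr rfl fun η' _ => by simp [hη']
      · rw [S2, Finset.mul_sum, Finset.sum_filter]
        exact Finset.sum_congr rfl fun η' _ => by simp [hη']
    rw [h]
    refine Finset.sum_le_sum fun η _ => Finset.sum_le_sum fun η' _ => ?_
    split_ifs with e1 e2
    · exact le_rfl
    · exact absurd (by rw [Triv, Triv, e1]) e2
    · exact Nat.zero_le _
    · exact le_rfl

/-- The inequality for trivial-intersection sets, for a nonnegative class function. -/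
theorem ti_sum_lt (F : G → ℝ) (hF : ∀ u y, F (u * y * u⁻¹) = F y) (h0 : ∀ y, 0 ≤ F y) (h1 : 0 < F 1) :
    (Nat.card G : ℝ) * ∑ c ∈ Finset.univ.filter (fun c : cen P => c ∉ D.Vc), F c
      < (Nat.card (nor P) : ℝ) * ∑ y : G, F y := by
  set S := (Finset.univ : Finset (cen P)).filter fun c : cen P => c ∉ D.Vc
  set f : G × cen P → G := fun q => q.1 * (q.2 : G) * q.1⁻¹ with hf
  set fib : G → ℕ := fun y => (((Finset.univ : Finset G) ×ˢ S).filter fun q => f q = y).card with hfib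
  have hsum : (Nat.card G : ℝ) * ∑ c ∈ S, F c = ∑ y : G, (fib y : ℝ) * F y := by
    have h := Finset.sum_fiberwise_of_maps_to (s := (Finset.univ : Finset G) ×ˢ S) (t := (Finset.univ : Finset G))
      (g := f) (fun q _ => Finset.mem_univ _) fun q => F (f q)
    rw [Finset.sum_congr rfl (g := fun y => (fib y : ℝ) * F y) fun y _ => by
      rw [Finset.sum_congr rfl (g := fun _ => F y) fun q hq => by rw [(Finset.mem_filter.1 hq).2],
        Finset.sum_const, nsmul_eq_mul]] at h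
    rw [h, Finset.sum_product, Finset.sum_congr rfl (g := fun _ => ∑ c ∈ S, F c) fun g _ =>
      Finset.sum_congr rfl fun c _ => by simp only [hf, hF], Finset.sum_const, Finset.card_univ,
      nsmul_eq_mul, Nat.card_eq_fintype_card]
  have hone : fib 1 = 0 := Finset.card_eq_zero.2 (Finset.filter_eq_empty_iff.2 fun q hq h => by
    refine (Finset.mem_filter.1 (Finset.mem_product.1 hq).2).2 ?_
    have h1 : (q.2 : G) = 1 := by
      have := congrArg (fun t => q.1⁻¹ * t * q.1) h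
      simpa [hf, mul_assoc] using this
    show (q.2 : G) ∈ D.V
    rw [h1]
    exact one_mem _)
  have hle : ∀ y, fib y ≤ Nat.card (nor P) := by
    intro y
    rcases Finset.eq_empty_or_nonempty (((Finset.univ : Finset G) ×ˢ S).filter fun q => f q = y) with h | ⟨q₀, hq₀⟩
    · simp [hfib, h]
    rw [Nat.card_eq_fintype_card, ← Finset.card_univ, hfib]
    refine Finset.card_le_card_of_injOn
      (fun q : G × cen P => if h : q₀.1⁻¹ * q.1 ∈ nor P then (⟨_, h⟩ : nor P) else 1)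
      (fun q _ => Finset.mem_univ _) ?_
    have key : ∀ q ∈ (((Finset.univ : Finset G) ×ˢ S).filter fun q => f q = y),
        q₀.1⁻¹ * q.1 ∈ nor P ∧ (q.2 : G) = q.1⁻¹ * y * q.1 := by
      intro q hq
      obtain ⟨hq1, hq2⟩ := Finset.mem_filter.1 hq
      obtain ⟨-, h₀2⟩ := Finset.mem_filter.1 hq₀
      refine ⟨D.mem_nor q.2.2 (Finset.mem_filter.1 (Finset.mem_product.1 hq1).2).2 q₀.2.2 ?_, ?_⟩
      · have e : q₀.1⁻¹ * q.1 * (q.2 : G) * (q₀.1⁻¹ * q.1)⁻¹ = q₀.1⁻¹ * f q * q₀.1 := by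
          simp [hf, mul_assoc]
        rw [e, hq2, ← h₀2]
        simp [hf, mul_assoc]
      · rw [← hq2]
        simp [hf, mul_assoc]
    intro a ha b hb hab
    simp only [Finset.mem_coe] at ha hb
    simp only [dif_pos (key a ha).1, dif_pos (key b hb).1, Subtype.mk.injEq, mul_right_inj] at hab
    exact Prod.ext hab (Subtype.ext (by rw [(key a ha).2, (key b hb).2, hab]))
  rw [hsum, ← Finset.add_sum_erase _ _ (Finset.mem_univ (1 : G)), hone, Nat.cast_zero, zero_mul, zero_add]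
  calc ∑ y ∈ Finset.univ.erase (1 : G), (fib y : ℝ) * F y
      ≤ ∑ y ∈ Finset.univ.erase (1 : G), (Nat.card (nor P) : ℝ) * F y :=
        Finset.sum_le_sum fun y _ => mul_le_mul_of_nonneg_right (Nat.cast_le.2 (hle y)) (h0 y)
    _ < (Nat.card (nor P) : ℝ) * ∑ y : G, F y := by
        rw [← Finset.mul_sum, ← Finset.add_sum_erase _ _ (Finset.mem_univ (1 : G))]
        exact mul_lt_mul_of_pos_left (by linarith) (Nat.cast_pos.2 Nat.card_pos)

theorem sum_real_affine {H : Type*} [Fintype H] (f : H → ℂ) (s r : ℝ) (a b : ℕ) {n : ℝ}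
    (hn : (Fintype.card H : ℝ) = n) (hsum : ∑ x, f x = (n : ℂ) * a)
    (hsq : ∑ x, f x * conj (f x) = (n : ℂ) * b) :
    ∑ x, ‖(s : ℂ) * f x + (r : ℂ)‖ ^ 2 = n * (s ^ 2 * b + 2 * r * s * a + r ^ 2) := by
  apply Complex.ofReal_injective
  have hc : ∑ x, conj (f x) = (n : ℂ) * a := by
    rw [← map_sum, hsum]
    simp
  have e : ∀ x, ((‖(s : ℂ) * f x + (r : ℂ)‖ ^ 2 : ℝ) : ℂ)
      = (s : ℂ) ^ 2 * (f x * conj (f x)) + (r : ℂ) * s * f x + (r : ℂ) * s * conj (f x) + (r : ℂ) ^ 2 := by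
    intro x
    rw [← Complex.normSq_eq_norm_sq, ← Complex.mul_conj, map_add, map_mul, Complex.conj_ofReal, Complex.conj_ofReal]
    ring
  push_cast at e ⊢
  simp only [e, Finset.sum_add_distrib, ← Finset.mul_sum, hsum, hsq, hc, Finset.sum_const, Finset.card_univ,
    nsmul_eq_mul]
  have hn' : (Fintype.card H : ℂ) = (n : ℂ) := by rw [← hn]; norm_num
  rw [hn']
  ring

/-- The basic inequality. -/
theorem main_ineq {ψ : IrrCharacter G} (hψ : ψ ≠ DegreeTools.oneChar G) {s r : ℤ} (hs : 0 < s) (hr : 0 ≤ r) :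
    s ^ 2 * ((Nat.card P : ℤ) * ((∑ η : IrrCharacter (cen P), co ψ η ^ 2 : ℕ) : ℤ)
        - ((S1 D ψ : ℤ) ^ 2 + (S2 D ψ : ℤ) ^ 2))
      + 2 * r * s * ((Nat.card P : ℤ) * M1 P ψ - S1 D ψ) + r ^ 2 * ((Nat.card P : ℤ) - 1)
      < (Nat.card P : ℤ) * D.aut * (s ^ 2 + r ^ 2) := by
  obtain ⟨SV, hSV, hSVle⟩ := sum_normSq_V_le D ψ
  set T := ∑ η : IrrCharacter (cen P), co ψ η ^ 2
  set F : G → ℝ := fun y => ‖((s : ℝ) : ℂ) * (ψ : G → ℂ) y + ((r : ℝ) : ℂ)‖ ^ 2 with hF
  have hFcl : ∀ u y, F (u * y * u⁻¹) = F y := fun u y => by simp only [hF, irr_conj_apply]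
  have h1 : 0 < F 1 := by
    simp only [hF, irr_one_eq]
    rw [show ((s : ℝ) : ℂ) * (charDegree (ψ : G → ℂ) : ℂ) + ((r : ℝ) : ℂ)
      = (((s : ℝ) * charDegree (ψ : G → ℂ) + r : ℝ) : ℂ) by push_cast; ring, Complex.norm_real, Real.norm_eq_abs,
      sq_abs]
    have : (0 : ℝ) < (s : ℝ) * charDegree (ψ : G → ℂ) + r := by
      have := mul_pos (Int.cast_pos.2 hs : (0 : ℝ) < s) (Nat.cast_pos.2 (charDegree_pos ψ))
      have : (0 : ℝ) ≤ r := Int.cast_nonneg hr
      linarith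
    positivity
  have hti := ti_sum_lt D F hFcl (fun y => sq_nonneg _) h1
  have hG : ∑ y : G, F y = (Nat.card G : ℝ) * ((s : ℝ) ^ 2 + (r : ℝ) ^ 2) := by
    rw [sum_real_affine (fun y => (ψ : G → ℂ) y) (s : ℝ) (r : ℝ) 0 1 (n := (Nat.card G : ℝ))
      (by rw [Nat.card_eq_fintype_card]) (by rw [DegreeTools.sum_eq_zero ψ hψ]; simp) ?_]
    · push_cast; ring
    · have h := DegreeTools.sum_norm_sq ψ
      simp only [Complex.mul_conj, Complex.normSq_eq_norm_sq]
      rw [← Complex.ofReal_sum, h]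
      simp
  have hC : ∑ c : cen P, F c = (Nat.card (cen P) : ℝ) * ((s : ℝ) ^ 2 * T + 2 * r * s * M1 P ψ + (r : ℝ) ^ 2) :=
    sum_real_affine (fun c : cen P => (ψ : G → ℂ) c) (s : ℝ) (r : ℝ) (M1 P ψ) T
      (by rw [Nat.card_eq_fintype_card]) (by rw [sum_cen]; simp) (by rw [sum_normSq_cen]; simp [T])
  have hV : ∑ v : D.Vc, F (v : cen P) = (Nat.card D.Vc : ℝ) * ((s : ℝ) ^ 2 * SV + 2 * r * s * S1 D ψ + (r : ℝ) ^ 2) :=
    sum_real_affine (fun v : D.Vc => (ψ : G → ℂ) (v : cen P)) (s : ℝ) (r : ℝ) (S1 D ψ) SV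
      (by rw [Nat.card_eq_fintype_card]) (by rw [sum_V]; simp) (by rw [hSV]; simp)
  have hsplit : ∑ c ∈ Finset.univ.filter (fun c : cen P => c ∉ D.Vc), F c
      + ∑ v : D.Vc, F (v : cen P) = ∑ c : cen P, F c := by
    rw [← Finset.sum_subtype (Finset.univ.filter fun c : cen P => c ∈ D.Vc) (fun c => by simp) (fun c : cen P => F c),
      add_comm, Finset.sum_filter_add_sum_filter_not]
  rw [hG, ← mul_assoc, mul_comm (Nat.card (nor P) : ℝ), mul_assoc] at hti
  have hS := lt_of_mul_lt_mul_left hti (Nat.cast_nonneg _)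
  have hnor : (Nat.card (nor P) : ℝ) = (D.aut : ℝ) * ((Nat.card P : ℝ) * Nat.card D.Vc) := by
    rw [D.card_nor, D.card_cen]; push_cast; ring
  have hcen : (Nat.card (cen P) : ℝ) = (Nat.card P : ℝ) * Nat.card D.Vc := by
    rw [D.card_cen]; push_cast; ring
  rw [hcen] at hC
  rw [hnor] at hS
  have hreal : (Nat.card D.Vc : ℝ) * ((s : ℝ) ^ 2 * ((Nat.card P : ℝ) * T - SV)
      + 2 * r * s * ((Nat.card P : ℝ) * M1 P ψ - S1 D ψ) + (r : ℝ) ^ 2 * ((Nat.card P : ℝ) - 1))
      < (Nat.card D.Vc : ℝ) * ((Nat.card P : ℝ) * D.aut * ((s : ℝ) ^ 2 + (r : ℝ) ^ 2)) := by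
    linarith
  have hfin := lt_of_mul_lt_mul_left hreal (Nat.cast_nonneg _)
  have hint : s ^ 2 * ((Nat.card P : ℤ) * (T : ℤ) - (SV : ℤ))
      + 2 * r * s * ((Nat.card P : ℤ) * M1 P ψ - S1 D ψ) + r ^ 2 * ((Nat.card P : ℤ) - 1)
      < (Nat.card P : ℤ) * D.aut * (s ^ 2 + r ^ 2) := by exact_mod_cast hfin
  have : (SV : ℤ) ≤ (S1 D ψ : ℤ) ^ 2 + (S2 D ψ : ℤ) ^ 2 := by exact_mod_cast hSVle
  nlinarith [sq_nonneg s]

end CfsgLib.CharDeep.FrobDeg
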