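import Cfsg.Agent.Lib.CharDeep.FrobDeg.Main
import Cfsg.Agent.Lib.CharDeep.SmallFaithful.Reduction

/-!
# Small characters with a semiregular abelian Sylow subgroup: the dichotomy
-/

set_option autoImplicit false

namespace CfsgLib.CharDeep.FrobDeg

open Cfsg CfsgLib CfsgLib.Blocks
open scoped Classical

theorem dichotomy {G : Type*} [Group G] [Finite G] {p : ℕ} [hp : Fact p.Prime] (P : Sylow p G)
    (hne : ∃ x ∈ (P : Subgroup G), x ≠ 1)
    (hstar : ∀ x ∈ (P : Subgroup G), x ≠ 1 → Subgroup.centralizer ({x} : Set G) = cen P)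
    (χ : IrrCharacter G) (h1 : (χ : G → ℂ) ≠ fun _ => 1)
    (hdeg : charDegree (χ : G → ℂ) ^ 2 + 1 < Nat.card P) :
    (∃ K : Subgroup G, K.Normal ∧ K ≠ ⊤ ∧ (P : Subgroup G) ≤ K) ∨
      ((∃ N : Subgroup G, N.Normal ∧ N.index = Nat.card P) ∧ charDegree (χ : G → ℂ) = 1) := by
  cases nonempty_fintype G
  by_cases hleft : ∃ K : Subgroup G, K.Normal ∧ K ≠ ⊤ ∧ (P : Subgroup G) ≤ K
  · exact Or.inl hleft
  have hgen : ∀ M : Subgroup G, M.Normal → (P : Subgroup G) ≤ M → M = ⊤ := fun M hM hPM => by
    by_contra h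
    exact hleft ⟨M, hM, h, hPM⟩
  obtain ⟨D⟩ := exists_setting P hne hstar
  have hmove : ∃ u ∈ (P : Subgroup G), (χ : G → ℂ) u ≠ (χ : G → ℂ) 1 := by
    by_contra hno
    push Not at hno
    have hne1 : χ ≠ DegreeTools.oneChar G := (DegreeTools.ne_oneChar_iff χ).2 h1
    have htop := hgen _ (Char.charKer_normal (Char.isCharacter_irr χ)) fun u hu =>
      (Char.mem_charKer _).2 (hno u hu)
    have hall : ∀ g, (χ : G → ℂ) g = (χ : G → ℂ) 1 := fun g =>
      (Char.mem_charKer (Char.isCharacter_irr χ)).1 (htop ▸ Subgroup.mem_top g)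
    have h0 := DegreeTools.sum_eq_zero χ hne1
    rw [Finset.sum_congr rfl fun g _ => hall g, Finset.sum_const, nsmul_eq_mul] at h0
    rcases mul_eq_zero.1 h0 with h0 | h0
    · simp at h0
    · exact irr_one_ne_zero χ h0
  by_cases hx : charDegree (χ : G → ℂ) = 1
  swap
  · exact (no_small_character D hgen hmove hx hdeg).elim
  refine Or.inr ⟨?_, hx⟩
  obtain ⟨O, hO, hOpos, -⟩ := exists_family D hmove
  have hm : D.aut = 1 := by
    have := hO.trans ((card_le_sum (P := P) fun η hη => (hOpos η hη).1).trans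
      ((Finset.sum_le_sum_of_subset (Finset.subset_univ O)).trans (sum_co_le_deg χ)))
    have := D.aut_pos
    omega
  have hle : nor P ≤ cen P := by
    have h := D.card_nor
    rw [hm, one_mul] at h
    exact (Subgroup.eq_of_le_of_card_ge (Subgroup.centralizer_le_normalizer _) h.le).ge
  obtain ⟨P', N, hN, hc⟩ := CfsgLib.Fusion.Abelian.npc_of_normalizer_le_centralizer P hle
  refine ⟨N, hN, ?_⟩
  rw [hc.symm.index_eq_card]
  show Nat.card P' = Nat.card P
  rw [P'.card_eq_multiplicity, P.card_eq_multiplicity]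

universe u

theorem sylow_normal_aux {p : ℕ} [hp : Fact p.Prime] :
    ∀ (m : ℕ) (G : Type u) [Group G] [Finite G], Nat.card G = m → ∀ (P : Sylow p G),
      (∀ x ∈ (P : Subgroup G), x ≠ 1 → Subgroup.centralizer ({x} : Set G) = cen P) → ∀ χ : G → ℂ,
      Cfsg.IsCharacter G χ → (∀ g : G, χ g = χ 1 → g = 1) → Cfsg.charDegree χ ^ 2 + 1 < Nat.card P →
      (P : Subgroup G).Normal := by
  intro m
  induction m using Nat.strong_induction_on with
  | _ m ih =>
  intro G _ _ hm P hstar χ hχ hfaith hdeg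
  cases nonempty_fintype G
  by_contra hP
  obtain ⟨ψ, hle, hne1, -⟩ := SmallFaithful.exists_moving P hP hχ hfaith
  have hne : ∃ x ∈ (P : Subgroup G), x ≠ 1 := by
    by_contra hno
    push Not at hno
    refine hP ?_
    rw [(Subgroup.eq_bot_iff_forall _).2 hno]
    infer_instance
  have hdeg' : charDegree (ψ : G → ℂ) ^ 2 + 1 < Nat.card P := by
    have := Nat.pow_le_pow_left hle 2
    omega
  rcases dichotomy P hne hstar ψ (fun h => hne1 (congrFun h 1)) hdeg' with ⟨K, hKn, hKtop, hPK⟩ | ⟨-, h1⟩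
  · have hlt : Nat.card K < m := hm ▸ lt_of_le_of_ne (Subgroup.card_le_card_group K)
      fun e => hKtop (K.eq_top_of_card_eq e)
    have hcard : Nat.card (P.subtype hPK : Sylow p K) = Nat.card P := by
      show Nat.card (P.subtype hPK : Subgroup K) = Nat.card (P : Subgroup G)
      rw [Sylow.coe_subtype]
      exact Nat.card_congr (Subgroup.subgroupOfEquivOfLe hPK).toEquiv
    have hQ := ih (Nat.card K) hlt K rfl (P.subtype hPK) (fun x hx hx1 => by
      rw [Sylow.coe_subtype, Subgroup.mem_subgroupOf] at hx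
      have h := hstar (x : G) hx (fun e => hx1 (Subtype.ext e))
      ext y
      unfold cen
      rw [Subgroup.mem_centralizer_singleton_iff, Sylow.coe_subtype, Subgroup.mem_centralizer_iff]
      have hy := SetLike.ext_iff.1 h (y : G)
      rw [Subgroup.mem_centralizer_singleton_iff, Subgroup.mem_centralizer_iff] at hy
      constructor
      · intro e u hu
        exact Subtype.ext ((hy.1 (congrArg Subtype.val e)) (u : G) hu)
      · intro e
        exact Subtype.ext (hy.2 fun u hu => congrArg Subtype.val (e ⟨u, hPK hu⟩ hu)))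
      _ (Char.IsCharacter.restrict hχ K) (fun g e => SmallFaithful.faithful_restrict hfaith K g e)
      (by rw [hcard]; exact hdeg)
    haveI := hKn
    have hc := Sylow.characteristic_of_normal _ hQ
    have := ConjAct.normal_of_characteristic_of_normal (K := (P.subtype hPK : Subgroup K))
    rw [Sylow.coe_subtype, Subgroup.subgroupOf_map_subtype, inf_eq_left.2 hPK] at this
    exact hP this
  · exact hne1 (by rw [irr_one_eq, h1, Nat.cast_one])

end CfsgLib.CharDeep.FrobDeg
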