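import Cfsg.Agent.Lib.CharDeep.FrobDeg.Coef
import Cfsg.Agent.Lib.BrauerPairs.Conj
import Cfsg.Agent.Lib.Fusion.Abelian
import Cfsg.Agent.Lib.Char.Constituent
import Cfsg.Agent.Lib.Char.Linear

/-!
# Characters of small degree with a semiregular abelian Sylow subgroup
-/

set_option autoImplicit false

namespace CfsgLib.CharDeep.FrobDeg

open Cfsg CfsgLib CfsgLib.Blocks
open scoped Classical ComplexConjugate

variable {G : Type*} [Group G] [Fintype G] {p : ℕ} [hp : Fact p.Prime] {P : Sylow p G} (D : Setting P)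

/-- Nontrivial on `P`. -/
def Moves (η : IrrCharacter (cen P)) : Prop :=
  ∃ z : ↥(P : Subgroup G), (η : cen P → ℂ) (D.zC z) ≠ (η : cen P → ℂ) 1

theorem not_moves_oneChar : ¬ Moves D (DegreeTools.oneChar (cen P)) := fun ⟨_, h⟩ => h rfl

theorem exists_moves {ψ : IrrCharacter G}
    (hmove : ∃ u ∈ (P : Subgroup G), (ψ : G → ℂ) u ≠ (ψ : G → ℂ) 1) :
    ∃ η, 0 < co ψ η ∧ Moves D η := by
  obtain ⟨u, hu, hne⟩ := hmove
  by_contra hno
  push Not at hno
  refine hne ?_
  have h1 := apply_cen (P := P) ψ (D.zC ⟨u, hu⟩)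
  have h2 := apply_cen (P := P) ψ 1
  rw [show ((D.zC ⟨u, hu⟩ : cen P) : G) = u from rfl] at h1
  rw [OneMemClass.coe_one] at h2
  rw [h1, h2]
  refine Finset.sum_congr rfl fun η _ => ?_
  rcases Nat.eq_zero_or_pos (co ψ η) with h0 | h0
  · simp [h0]
  have := hno η h0
  simp only [Moves, not_exists, not_not] at this
  rw [this ⟨u, hu⟩]

/-- Conjugation of the centralizer by a normalizing element. -/
noncomputable def conjC (g : nor P) : cen P ≃* cen P :=
  BrauerPairs.conjIso (g : G) fun y => ⟨fun h => Subgroup.mem_centralizer_iff.2 fun u hu => by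
      have h1 := Subgroup.mem_centralizer_iff.1 h _ ((Subgroup.mem_normalizer_iff.1 g.2 u).1 hu)
      exact (MulAut.conj (g : G)).injective (by simpa [map_mul] using h1),
    fun h => Subgroup.mem_centralizer_iff.2 fun u hu => by
      have h1 := Subgroup.mem_centralizer_iff.1 h _ ((Subgroup.mem_normalizer_iff''.1 g.2 u).1 hu)
      have h2 := congrArg (MulAut.conj (g : G)) h1
      simp only [map_mul, MulAut.conj_apply] at h2
      simpa [mul_assoc] using h2⟩

theorem coe_conjC (g : nor P) (y : cen P) : (conjC g y : G) = (g : G) * (y : G) * (g : G)⁻¹ :=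
  BrauerPairs.coe_conjIso _ _ _

/-- A conjugate character. -/
noncomputable def twist (η : IrrCharacter (cen P)) (g : nor P) : IrrCharacter (cen P) :=
  BrauerPairs.irrEquiv (conjC g) η

theorem twist_apply (η : IrrCharacter (cen P)) (g : nor P) (y : cen P) :
    (twist η g : cen P → ℂ) y = (η : cen P → ℂ) (conjC g y) := BrauerPairs.irrEquiv_apply _ _ _

theorem co_twist (ψ : IrrCharacter G) (η : IrrCharacter (cen P)) (g : nor P) :
    co ψ (twist η g) = co ψ η := by
  apply Nat.cast_injective (R := ℂ)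
  rw [← co_spec, ← co_spec, Cfsg.classInner, Cfsg.classInner]
  congr 1
  refine Fintype.sum_equiv (conjC g).toEquiv _ _ fun y => ?_
  show _ = (ψ : G → ℂ) (conjC g y : G) * conj ((η : cen P → ℂ) (conjC g y))
  rw [twist_apply, coe_conjC, irr_conj_apply]

/-- The family of conjugates of a moving constituent. -/
theorem exists_family {ψ : IrrCharacter G}
    (hmove : ∃ u ∈ (P : Subgroup G), (ψ : G → ℂ) u ≠ (ψ : G → ℂ) 1) :
    ∃ O : Finset (IrrCharacter (cen P)), D.aut ≤ O.card ∧ (∀ η ∈ O, 0 < co ψ η ∧ Moves D η) ∧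
      ((∀ η ∈ O, Triv D η) ∨ ∀ η ∈ O, ¬ Triv D η) := by
  obtain ⟨η, hpos, hη⟩ := exists_moves D hmove
  refine ⟨(Finset.univ : Finset (nor P)).image (twist η), ?_, ?_, ?_⟩
  · have h := Finset.card_le_mul_card_image (s := (Finset.univ : Finset (nor P))) (f := twist η)
      (Nat.card (cen P)) fun b hb => ?_
    · rw [Finset.card_univ, ← Nat.card_eq_fintype_card, D.card_nor, mul_comm D.aut] at h
      exact Nat.le_of_mul_le_mul_left h Nat.card_pos
    obtain ⟨g₀, -, rfl⟩ := Finset.mem_image.1 hb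
    rw [Nat.card_eq_fintype_card, ← Finset.card_univ]
    have key : ∀ g : nor P, twist η g = twist η g₀ → (g : G) * (g₀ : G)⁻¹ ∈ cen P := by
      intro g hg
      by_contra hu
      set u := (g : G) * (g₀ : G)⁻¹ with hudef
      have hun : u ∈ nor P := mul_mem g.2 (inv_mem g₀.2)
      have hfix : ∀ z : ↥(P : Subgroup G), (η : cen P → ℂ)
          (D.zC ⟨u * (z : G) * u⁻¹, (Subgroup.mem_normalizer_iff.1 hun z).1 z.2⟩)
          = (η : cen P → ℂ) (D.zC z) := by
        intro z
        have hy : (g₀ : G)⁻¹ * (z : G) * g₀ ∈ (P : Subgroup G) := by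
          have := (Subgroup.mem_normalizer_iff.1 (inv_mem g₀.2) (z : G)).1 z.2
          rwa [inv_inv] at this
        have h1 := congrArg (fun φ : IrrCharacter (cen P) => (φ : cen P → ℂ) (D.zC ⟨_, hy⟩)) hg
        simp only [twist_apply] at h1
        have e1 : conjC g (D.zC ⟨_, hy⟩)
            = D.zC ⟨u * (z : G) * u⁻¹, (Subgroup.mem_normalizer_iff.1 hun z).1 z.2⟩ := Subtype.ext (by
          rw [coe_conjC]
          show (g : G) * ((g₀ : G)⁻¹ * (z : G) * g₀) * (g : G)⁻¹ = u * (z : G) * u⁻¹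
          rw [hudef]
          group)
        have e2 : conjC g₀ (D.zC ⟨_, hy⟩) = D.zC z := Subtype.ext (by
          rw [coe_conjC]
          show (g₀ : G) * ((g₀ : G)⁻¹ * (z : G) * g₀) * (g₀ : G)⁻¹ = (z : G)
          group)
        rwa [e1, e2] at h1
      let f : ↥(P : Subgroup G) → ↥(P : Subgroup G) := fun z =>
        ⟨u * (z : G) * u⁻¹ * (z : G)⁻¹, mul_mem ((Subgroup.mem_normalizer_iff.1 hun z).1 z.2) (inv_mem z.2)⟩
      have hinj : Function.Injective f := by
        intro z w e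
        have e' : u * (z : G) * u⁻¹ * (z : G)⁻¹ = u * (w : G) * u⁻¹ * (w : G)⁻¹ := congrArg Subtype.val e
        have e2 : u * ((w : G)⁻¹ * z) * u⁻¹ = (w : G)⁻¹ * z := by
          calc u * ((w : G)⁻¹ * z) * u⁻¹ = (u * (w : G) * u⁻¹)⁻¹ * (u * (z : G) * u⁻¹ * (z : G)⁻¹) * z := by group
            _ = _ := by rw [e']; group
        by_contra hne
        refine hu ?_
        rw [← D.star ((w : G)⁻¹ * z) (mul_mem (inv_mem w.2) z.2)
          (fun h => hne (Subtype.ext (inv_mul_eq_one.1 h).symm)), Subgroup.mem_centralizer_singleton_iff]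
        exact mul_inv_eq_iff_eq_mul.1 e2
      obtain ⟨z₀, hz₀⟩ := hη
      obtain ⟨z, hz⟩ := (Finite.injective_iff_surjective.1 hinj) z₀
      refine hz₀ ?_
      obtain ⟨w, -, hw⟩ := exists_scalar D η z₀
      have e3 : D.zC ⟨u * (z : G) * u⁻¹, (Subgroup.mem_normalizer_iff.1 hun z).1 z.2⟩ = D.zC z * D.zC z₀ := by
        refine Subtype.ext ?_
        rw [← hz]
        show u * (z : G) * u⁻¹ = (z : G) * (u * (z : G) * u⁻¹ * (z : G)⁻¹)
        rw [D.frob.comm _ z.2 _ (mul_mem ((Subgroup.mem_normalizer_iff.1 hun z).1 z.2) (inv_mem z.2)),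
          inv_mul_cancel_right]
      have h4 := hfix z
      rw [e3, hw] at h4
      have hnz : (η : cen P → ℂ) (D.zC z) ≠ 0 := by
        obtain ⟨w', hw'1, hw'⟩ := exists_scalar D η z
        have := hw' 1
        rw [one_mul] at this
        rw [this]
        exact mul_ne_zero (fun h => by simp [h] at hw'1) (irr_one_ne_zero η)
      have h5 := hw 1
      rw [one_mul] at h5
      rw [h5, (mul_eq_right₀ hnz).1 h4, one_mul]
    exact Finset.card_le_card_of_injOn
      (fun g : nor P => if h : (g : G) * (g₀ : G)⁻¹ ∈ cen P then (⟨_, h⟩ : cen P) else 1)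
      (fun g _ => Finset.mem_univ _) fun a ha b hb hab => by
        simp only [Finset.coe_filter, Finset.mem_univ, true_and, Set.mem_setOf_eq] at ha hb
        simp only [dif_pos (key a ha), dif_pos (key b hb), Subtype.mk.injEq, mul_left_inj] at hab
        exact Subtype.ext hab
  · rintro _ hmem
    obtain ⟨g, -, rfl⟩ := Finset.mem_image.1 hmem
    refine ⟨by rwa [co_twist], ?_⟩
    obtain ⟨z, hz⟩ := hη
    have hy : (g : G)⁻¹ * (z : G) * g ∈ (P : Subgroup G) := by
      have := (Subgroup.mem_normalizer_iff.1 (inv_mem g.2) (z : G)).1 z.2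
      rwa [inv_inv] at this
    refine ⟨⟨_, hy⟩, ?_⟩
    rw [twist_apply, twist_apply, map_one]
    have e : conjC g (D.zC ⟨_, hy⟩) = D.zC z := Subtype.ext (by
      rw [coe_conjC]
      show (g : G) * ((g : G)⁻¹ * (z : G) * g) * (g : G)⁻¹ = (z : G)
      group)
    rwa [e]
  · have hV : ∀ (g : nor P) (v : cen P), v ∈ D.Vc ↔ conjC g v ∈ D.Vc := fun g v => by
      rw [Subgroup.mem_subgroupOf, Subgroup.mem_subgroupOf, D.mem _ v.2, D.mem _ (conjC g v).2, coe_conjC,
        ← MulAut.conj_apply, MulEquiv.orderOf_eq]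
    have hiff : ∀ g : nor P, Triv D (twist η g) ↔ Triv D η := by
      intro g
      constructor
      · intro h
        funext v
        have h1 := congrFun h ⟨(conjC g).symm v, (hV g _).2 (by rw [MulEquiv.apply_symm_apply]; exact v.2)⟩
        simp only [resV, twist_apply, MulEquiv.apply_symm_apply] at h1 ⊢
        exact h1
      · intro h
        funext v
        show (twist η g : cen P → ℂ) v = 1
        rw [twist_apply]
        exact congrFun h ⟨conjC g v, (hV g v).1 v.2⟩
    by_cases ht : Triv D η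
    · refine Or.inl fun _ hmem => ?_
      obtain ⟨g, -, rfl⟩ := Finset.mem_image.1 hmem
      exact (hiff g).2 ht
    · refine Or.inr fun _ hmem => ?_
      obtain ⟨g, -, rfl⟩ := Finset.mem_image.1 hmem
      exact fun h => ht ((hiff g).1 h)

theorem S1_add_S2 (ψ : IrrCharacter G) : S1 D ψ + S2 D ψ = ∑ η : IrrCharacter (cen P), co ψ η :=
  Finset.sum_filter_add_sum_filter_not _ _ _

theorem sum_co_le_deg (ψ : IrrCharacter G) : ∑ η : IrrCharacter (cen P), co ψ η ≤ charDegree (ψ : G → ℂ) := by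
  rw [deg_eq (P := P) ψ]
  exact Finset.sum_le_sum fun η _ => Nat.le_mul_of_pos_right _ (charDegree_pos η)

theorem sum_co_add_le_sq (ψ : IrrCharacter G) :
    ((∑ η : IrrCharacter (cen P), co ψ η : ℕ) : ℤ) + (M1 P ψ : ℤ) * ((M1 P ψ : ℤ) - 1)
      ≤ ((∑ η : IrrCharacter (cen P), co ψ η ^ 2 : ℕ) : ℤ) := by
  rw [← Finset.add_sum_erase _ _ (Finset.mem_univ (DegreeTools.oneChar (cen P))),
    ← Finset.add_sum_erase _ _ (Finset.mem_univ (DegreeTools.oneChar (cen P)))]
  have h : ∑ η ∈ Finset.univ.erase (DegreeTools.oneChar (cen P)), co ψ η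
      ≤ ∑ η ∈ Finset.univ.erase (DegreeTools.oneChar (cen P)), co ψ η ^ 2 :=
    Finset.sum_le_sum fun η _ => Nat.le_self_pow two_ne_zero _
  have h' := Int.ofNat_le.2 h
  push_cast at h' ⊢
  rw [M1]
  nlinarith

theorem card_le_sum {ψ : IrrCharacter G} {O : Finset (IrrCharacter (cen P))} (h : ∀ η ∈ O, 0 < co ψ η) :
    O.card ≤ ∑ η ∈ O, co ψ η := by
  rw [Finset.card_eq_sum_ones]
  exact Finset.sum_le_sum fun η hη => h η hη

/-- The inequality without the auxiliary constant. -/
theorem basic_ineq {ψ : IrrCharacter G} (hψ : ψ ≠ DegreeTools.oneChar G) :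
    (Nat.card P : ℤ) * ((∑ η : IrrCharacter (cen P), co ψ η ^ 2 : ℕ) : ℤ)
        - ((S1 D ψ : ℤ) ^ 2 + (S2 D ψ : ℤ) ^ 2) < (Nat.card P : ℤ) * D.aut := by
  have := main_ineq D hψ (s := 1) (r := 0) one_pos le_rfl
  linarith

/-- A moving character with a constituent trivial on `P` when the automizer is trivial. -/
theorem false_of_aut_one (hm : D.aut = 1) {ψ : IrrCharacter G} (hψ : ψ ≠ DegreeTools.oneChar G)
    (hmove : ∃ u ∈ (P : Subgroup G), (ψ : G → ℂ) u ≠ (ψ : G → ℂ) 1)
    (htriv : ∑ z : ↥(P : Subgroup G), (ψ : G → ℂ) z ≠ 0)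
    (hD : charDegree (ψ : G → ℂ) + 3 ≤ Nat.card P) : False := by
  obtain ⟨η, hη, hηm⟩ := exists_moves D hmove
  obtain ⟨η', hη', hηm'⟩ : ∃ η', 0 < co ψ η' ∧ ¬ Moves D η' := by
    by_contra hno
    push Not at hno
    refine htriv ?_
    rw [Finset.sum_congr rfl fun (z : ↥(P : Subgroup G)) _ =>
      show (ψ : G → ℂ) z = _ from apply_cen (P := P) ψ (D.zC z),
      Finset.sum_comm]
    refine Finset.sum_eq_zero fun η _ => ?_
    rcases Nat.eq_zero_or_pos (co ψ η) with h0 | h0
    · simp [h0]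
    obtain ⟨z₀, hz₀⟩ := hno η h0
    obtain ⟨w, -, hw⟩ := exists_scalar D η z₀
    have hw1 : w ≠ 1 := fun h => hz₀ (by
      have := hw 1
      rwa [h, one_mul, one_mul] at this)
    have hshift : ∑ z : ↥(P : Subgroup G), (co ψ η : ℂ) * (η : cen P → ℂ) (D.zC z)
        = w * ∑ z : ↥(P : Subgroup G), (co ψ η : ℂ) * (η : cen P → ℂ) (D.zC z) := by
      rw [Finset.mul_sum]
      refine (Fintype.sum_equiv (Equiv.mulRight z₀) _ _ fun z => ?_).symm
      show w * ((co ψ η : ℂ) * (η : cen P → ℂ) (D.zC z)) = (co ψ η : ℂ) * (η : cen P → ℂ) (D.zC (z * z₀))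
      rw [show D.zC (z * z₀) = D.zC z * D.zC z₀ from rfl, hw]
      ring
    by_contra hne
    exact hw1 ((mul_eq_right₀ hne).1 hshift.symm)
  have h2 : 2 ≤ ∑ η : IrrCharacter (cen P), co ψ η := by
    have hne : η ≠ η' := fun e => hηm' (e ▸ hηm)
    calc 2 ≤ co ψ η + co ψ η' := by omega
      _ = ∑ t ∈ ({η, η'} : Finset (IrrCharacter (cen P))), co ψ t := (Finset.sum_pair hne).symm
      _ ≤ _ := Finset.sum_le_sum_of_subset (Finset.subset_univ _)
  have hA := S1_add_S2 D ψ
  have hle := sum_co_le_deg (P := P) ψ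
  have hineq := basic_ineq D hψ
  rw [hm, Nat.cast_one, mul_one] at hineq
  have hT := sum_co_add_le_sq (P := P) ψ
  have hMM : 0 ≤ (M1 P ψ : ℤ) * ((M1 P ψ : ℤ) - 1) := by
    rcases Nat.eq_zero_or_pos (M1 P ψ) with h | h
    · simp [h]
    · exact mul_nonneg (by positivity) (by omega)
  set q : ℤ := (Nat.card P : ℤ) with hq
  set A : ℤ := ((∑ η : IrrCharacter (cen P), co ψ η : ℕ) : ℤ)
  set T : ℤ := ((∑ η : IrrCharacter (cen P), co ψ η ^ 2 : ℕ) : ℤ)
  have h1 : (2 : ℤ) ≤ A := Int.ofNat_le.2 h2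
  have h3 : A + 3 ≤ q := by
    show ((∑ η : IrrCharacter (cen P), co ψ η : ℕ) : ℤ) + 3 ≤ (Nat.card P : ℤ)
    omega
  have hsum : (S1 D ψ : ℤ) + S2 D ψ = A := by
    show (S1 D ψ : ℤ) + S2 D ψ = ((∑ η : IrrCharacter (cen P), co ψ η : ℕ) : ℤ)
    omega
  have hs1 : (0 : ℤ) ≤ S1 D ψ := Nat.cast_nonneg _
  have hs2 : (0 : ℤ) ≤ S2 D ψ := Nat.cast_nonneg _
  have e1 : q * A ≤ q * T := mul_le_mul_of_nonneg_left (by linarith) (by linarith)
  nlinarith [mul_nonneg hs1 hs2, mul_nonneg (by linarith : (0 : ℤ) ≤ A - 2) (by linarith : (0 : ℤ) ≤ q - A - 2)]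

/-- The arithmetic when the automizer fixes the constituent. -/
theorem arith_key {m u : ℤ} (hm : 2 ≤ m) (hu : 0 ≤ u) :
    (m - u) * (m ^ 3 + u * (m - 1)) ≤ (m ^ 2 + u) ^ 2 := by
  nlinarith [mul_nonneg hu (mul_nonneg (sq_nonneg m) (by linarith : (0 : ℤ) ≤ m - 1)),
    mul_nonneg (mul_nonneg hu hu) (by linarith : (0 : ℤ) ≤ m - 1), mul_nonneg hu (by linarith : (0 : ℤ) ≤ m)]

set_option maxHeartbeats 1000000 in
/-- A moving character with a principal constituent on the centralizer has large degree. -/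
theorem false_of_principal (hm : 2 ≤ D.aut) (hq : D.aut * (D.aut + 1) + 1 ≤ Nat.card P) {ψ : IrrCharacter G}
    (hψ : ψ ≠ DegreeTools.oneChar G) (hM : 0 < M1 P ψ)
    (hmove : ∃ u ∈ (P : Subgroup G), (ψ : G → ℂ) u ≠ (ψ : G → ℂ) 1)
    (hD : charDegree (ψ : G → ℂ) + D.aut + 2 ≤ Nat.card P ∨
      (D.aut = 2 ∧ charDegree (ψ : G → ℂ) + 3 ≤ Nat.card P ∧ 9 ≤ Nat.card P)) : False := by
  obtain ⟨O, hO, hOpos, hOtriv⟩ := exists_family D hmove
  have hOsum := card_le_sum (P := P) (ψ := ψ) fun η hη => (hOpos η hη).1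
  set ι := DegreeTools.oneChar (cen P)
  have hι : ι ∈ Finset.univ.filter (Triv D) := Finset.mem_filter.2 ⟨Finset.mem_univ _, triv_oneChar D⟩
  have hMS : M1 P ψ ≤ S1 D ψ :=
    Finset.single_le_sum (f := fun η => co ψ η) (fun _ _ => Nat.zero_le _) hι
  have hT := sum_co_add_le_sq (P := P) ψ
  have hA := S1_add_S2 D ψ
  have hle := sum_co_le_deg (P := P) ψ
  have hineq := basic_ineq D hψ
  have hMM : 0 ≤ (M1 P ψ : ℤ) * ((M1 P ψ : ℤ) - 1) := mul_nonneg (by positivity) (by omega)
  set q : ℤ := (Nat.card P : ℤ) with hqdef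
  set m : ℤ := (D.aut : ℤ) with hmdef
  set a : ℤ := (S1 D ψ : ℤ) with hadef
  set b : ℤ := (S2 D ψ : ℤ) with hbdef
  set T : ℤ := ((∑ η : IrrCharacter (cen P), co ψ η ^ 2 : ℕ) : ℤ) with hTdef
  have hm' : 2 ≤ m := by omega
  have hq' : m * (m + 1) + 1 ≤ q := by rw [hmdef, hqdef]; exact_mod_cast hq
  have hqT : q * (a + b) ≤ q * T := mul_le_mul_of_nonneg_left (by omega) (by omega)
  have ha1 : 1 ≤ a := by omega
  have hb0 : 0 ≤ b := by omega
  have hab : a + b + m + 1 ≤ q := by omega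
  rcases hOtriv with ht | ht
  · have hS1 : (M1 P ψ : ℕ) + D.aut ≤ S1 D ψ := by
      have hnot : ι ∉ O := fun h => not_moves_oneChar D (hOpos ι h).2
      have h1 : ∑ η ∈ insert ι O, co ψ η ≤ S1 D ψ :=
        Finset.sum_le_sum_of_subset fun η hη => by
          rcases Finset.mem_insert.1 hη with rfl | hη
          · exact hι
          · exact Finset.mem_filter.2 ⟨Finset.mem_univ _, ht η hη⟩
      rw [Finset.sum_insert hnot] at h1
      have : M1 P ψ = co ψ ι := rfl
      omega
    have hb : 0 ≤ b * (q - b) := mul_nonneg hb0 (by omega)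
    by_cases h2 : m + 2 ≤ a
    · rcases hD with hD | ⟨hm2, hD, h9⟩
      · have hd : a + b + m + 2 ≤ q := by omega
        have h3 : 0 ≤ (a - (m + 2)) * (q - (m + 2) - a) := mul_nonneg (by linarith) (by linarith)
        rcases (by omega : m = 2 ∨ 3 ≤ m) with hm2 | hm3
        · rw [hm2] at h3 hineq hd
          have : 8 ≤ q := by omega
          nlinarith
        · nlinarith
      · have hm2' : m = 2 := by omega
        have hd : a + b + 3 ≤ q := by omega
        have h9' : 9 ≤ q := by omega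
        have h3 : 0 ≤ (a - 3) * (q - 3 - a) := mul_nonneg (by omega) (by omega)
        rw [hm2'] at hineq
        nlinarith
    · have ha : a = m + 1 := by omega
      have hM1 : (M1 P ψ : ℤ) = 1 := by omega
      set s : ℤ := q * m - q + 1 with hsdef
      set r : ℤ := q - (m + 1) with hrdef
      have hs : 0 < s := by nlinarith
      have h := main_ineq D hψ (s := s) (r := r) hs (by omega)
      rw [← hqdef, ← hTdef, ← hadef, ← hbdef, ← hmdef, hM1, ha] at h
      have hlow : (q - (m + 1)) * (m + 1) ≤ q * T - ((m + 1) ^ 2 + b ^ 2) := by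
        rw [ha] at hqT
        nlinarith
      have hlow' := mul_le_mul_of_nonneg_left hlow (sq_nonneg s)
      obtain ⟨u, hu0, hu⟩ : ∃ u : ℤ, 0 ≤ u ∧ q = m ^ 2 + m + 1 + u := ⟨q - (m ^ 2 + m + 1), by nlinarith, by ring⟩
      have hk : ((m + 1) ^ 2 - q) * s ≤ r ^ 2 := by
        have := arith_key hm' hu0
        rw [hsdef, hrdef, hu]
        linarith
      have hk' := mul_le_mul_of_nonneg_left hk hs.le
      have hid : q * m * (s ^ 2 + r ^ 2) - (s ^ 2 * ((q - (m + 1)) * (m + 1)) + 2 * r * s * (q * 1 - (m + 1))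
          + r ^ 2 * (q - 1)) = s * (((m + 1) ^ 2 - q) * s) - s * r ^ 2 := by
        rw [hsdef, hrdef]
        ring
      linarith
  · have hS2 : D.aut ≤ S2 D ψ := by
      refine hO.trans (hOsum.trans ?_)
      exact Finset.sum_le_sum_of_subset fun η hη => Finset.mem_filter.2 ⟨Finset.mem_univ _, ht η hη⟩
    have h3 : 0 ≤ (a - 1) * (q - 1 - a) := mul_nonneg (by linarith) (by linarith)
    have h4 : 0 ≤ (b - m) * (q - m - b) := mul_nonneg (by omega) (by linarith)
    nlinarith

/-- Small degree and a multiple principal constituent. -/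
theorem false_of_multiple (hm : 3 ≤ D.aut) {ψ : IrrCharacter G} (hψ : ψ ≠ DegreeTools.oneChar G)
    (hM : D.aut - 1 ≤ M1 P ψ) (hD : charDegree (ψ : G → ℂ) + 3 ≤ Nat.card P) : False := by
  have hT := sum_co_add_le_sq (P := P) ψ
  have hA := S1_add_S2 D ψ
  have hle := sum_co_le_deg (P := P) ψ
  have hineq := basic_ineq D hψ
  have hMS : M1 P ψ ≤ S1 D ψ :=
    Finset.single_le_sum (f := fun η => co ψ η) (fun _ _ => Nat.zero_le _)
      (Finset.mem_filter.2 ⟨Finset.mem_univ _, triv_oneChar D⟩)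
  set q : ℤ := (Nat.card P : ℤ) with hqdef
  set m : ℤ := (D.aut : ℤ) with hmdef
  set a : ℤ := (S1 D ψ : ℤ) with hadef
  set b : ℤ := (S2 D ψ : ℤ) with hbdef
  set M : ℤ := (M1 P ψ : ℤ) with hMdef
  set T : ℤ := ((∑ η : IrrCharacter (cen P), co ψ η ^ 2 : ℕ) : ℤ) with hTdef
  have hMge : m - 1 ≤ M := by omega
  have hm3 : 3 ≤ m := by omega
  have hqT : q * (a + b + M * (M - 1)) ≤ q * T := mul_le_mul_of_nonneg_left (by
    have : ((∑ η : IrrCharacter (cen P), co ψ η : ℕ) : ℤ) = a + b := by omega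
    linarith) (by omega)
  have h1 : (m - 1) * (m - 2) ≤ M * (M - 1) := by nlinarith
  have h2 : 0 ≤ (a + b - 2) * (q - 2 - (a + b)) := mul_nonneg (by omega) (by omega)
  have h3 : 0 ≤ a * b := mul_nonneg (by omega) (by omega)
  have h4 : 0 ≤ q := by omega
  have h5 := mul_le_mul_of_nonneg_left h1 h4
  have h6 : 1 ≤ (m - 2) ^ 2 := by nlinarith
  have h7 := mul_le_mul_of_nonneg_left h6 h4
  nlinarith

include D in
/-- No small nonlinear character moves `P` when `P` lies in no proper normal subgroup. -/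
theorem no_small_character
    (hgen : ∀ M : Subgroup G, M.Normal → (P : Subgroup G) ≤ M → M = ⊤) {χ : IrrCharacter G}
    (hmove : ∃ u ∈ (P : Subgroup G), (χ : G → ℂ) u ≠ (χ : G → ℂ) 1)
    (hne1 : charDegree (χ : G → ℂ) ≠ 1) (hx : charDegree (χ : G → ℂ) ^ 2 + 1 < Nat.card P) : False := by
  set x := charDegree (χ : G → ℂ) with hxdef
  set q := Nat.card P with hqdef
  have hx2 : 2 ≤ x := by
    have := charDegree_pos χ
    omega
  have hmx : D.aut ≤ x := by
    obtain ⟨O, hO, hOpos, -⟩ := exists_family D hmove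
    exact hO.trans ((card_le_sum (P := P) fun η hη => (hOpos η hη).1).trans
      ((Finset.sum_le_sum_of_subset (Finset.subset_univ O)).trans (sum_co_le_deg χ)))
  have hΦ : Cfsg.IsCharacter G (fun g => (χ : G → ℂ) g * conj ((χ : G → ℂ) g)) :=
    Char.IsCharacter.mul (Char.isCharacter_irr χ) (Char.IsCharacter.conj' (Char.isCharacter_irr χ))
  obtain ⟨a, ha, hexp⟩ := Char.IsCharacter.exists_multiplicity hΦ
  set ι := DegreeTools.oneChar G
  have ha1 : a ι = 1 := by
    apply Nat.cast_injective (R := ℂ)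
    rw [← ha, Nat.cast_one, ← Char.classInner_irr_self χ.2, Cfsg.classInner, Cfsg.classInner]
    simp [ι]
  set s := Finset.univ.erase ι with hs
  have e1 : ∑ φ, a φ * charDegree (φ : G → ℂ) = x * x := by
    apply Nat.cast_injective (R := ℂ)
    have h := hexp 1
    simp only [irr_one_eq, map_natCast] at h
    push_cast
    exact h.symm
  rw [← Finset.add_sum_erase _ _ (Finset.mem_univ ι), ha1, one_mul, DegreeTools.deg_oneChar, ← hs] at e1
  have hx4 : x * x + 2 ≤ q := by rw [sq] at hx; omega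
  have hdeg : ∀ φ ∈ s, 0 < a φ → charDegree (φ : G → ℂ) + 3 ≤ q := by
    intro φ hφ hpos
    have := Finset.single_le_sum (f := fun φ => a φ * charDegree (φ : G → ℂ)) (fun _ _ => Nat.zero_le _) hφ
    have h2 := Nat.le_mul_of_pos_left (charDegree (φ : G → ℂ)) hpos
    omega
  have hne : ∀ φ ∈ s, φ ≠ ι := fun φ hφ => Finset.ne_of_mem_erase hφ
  have hmv : ∀ φ ∈ s, ∃ u ∈ (P : Subgroup G), (φ : G → ℂ) u ≠ (φ : G → ℂ) 1 := by
    intro φ hφ
    by_contra hno
    push Not at hno
    have htop := hgen _ (Char.charKer_normal (Char.isCharacter_irr φ)) fun u hu =>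
      (Char.mem_charKer _).2 (hno u hu)
    have hall : ∀ g, (φ : G → ℂ) g = (φ : G → ℂ) 1 := fun g =>
      (Char.mem_charKer (Char.isCharacter_irr φ)).1 (htop ▸ Subgroup.mem_top g)
    have h0 := DegreeTools.sum_eq_zero φ (hne φ hφ)
    rw [Finset.sum_congr rfl fun g _ => hall g, Finset.sum_const, nsmul_eq_mul] at h0
    rcases mul_eq_zero.1 h0 with h0 | h0
    · simp at h0
    · exact irr_one_ne_zero φ h0
  rcases Nat.lt_or_ge D.aut 2 with hm | hm
  · have hm1 : D.aut = 1 := by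
      have := D.aut_pos
      omega
    -- the restriction to `P` has at least two constituents
    haveI : IsMulCommutative ↥(P : Subgroup G) := ⟨⟨fun a b => Subtype.ext (D.frob.comm a a.2 b b.2)⟩⟩
    have hres := Char.IsCharacter.restrict (Char.isCharacter_irr χ) (P : Subgroup G)
    obtain ⟨μ, hμ, hμexp⟩ := Char.IsCharacter.exists_multiplicity hres
    have hlin : ∀ φ : IrrCharacter ↥(P : Subgroup G), (φ : ↥(P : Subgroup G) → ℂ) 1 = 1 := fun φ =>
      Char.apply_one_eq_one_of_comm (fun a b => Subtype.ext (D.frob.comm a a.2 b b.2)) φ.2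
    have hsum1 : ∑ φ, μ φ = x := by
      apply Nat.cast_injective (R := ℂ)
      have h := hμexp 1
      simp only [OneMemClass.coe_one, irr_one_eq, hlin, mul_one] at h
      push_cast
      exact h.symm
    have hsq : ∑ z : ↥(P : Subgroup G), (χ : G → ℂ) z * conj ((χ : G → ℂ) z)
        = (q : ℂ) * ((∑ φ, μ φ ^ 2 : ℕ) : ℂ) := by
      rw [Finset.sum_congr rfl (g := fun z : ↥(P : Subgroup G) => ∑ φ : IrrCharacter ↥(P : Subgroup G),
        (μ φ : ℂ) * ((φ : ↥(P : Subgroup G) → ℂ) z * conj ((χ : G → ℂ) z))) fun z _ => ?_,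
        Finset.sum_comm, Nat.cast_sum, Finset.mul_sum]
      · refine Finset.sum_congr rfl fun φ _ => ?_
        have h1 := congrArg conj (hμ φ)
        rw [map_natCast, Cfsg.classInner, map_mul, map_inv₀, map_natCast, map_sum,
          inv_mul_eq_iff_eq_mul₀ Char.card_ne_zero] at h1
        rw [← Finset.mul_sum, Finset.sum_congr rfl (g := fun z : ↥(P : Subgroup G) =>
          conj ((χ : G → ℂ) z * conj ((φ : ↥(P : Subgroup G) → ℂ) z))) fun z _ => by
            rw [map_mul, Complex.conj_conj, mul_comm], h1]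
        push_cast
        ring
      · simp only [← mul_assoc, ← Finset.sum_mul]
        rw [← hμexp z]
    obtain ⟨φ, hφ, hapos, hφz⟩ : ∃ φ ∈ s, 0 < a φ ∧ ∑ z : ↥(P : Subgroup G), (φ : G → ℂ) z ≠ 0 := by
      by_contra hno
      push Not at hno
      have h2 : 2 ≤ ∑ φ, μ φ ^ 2 :=
        le_trans (hsum1.symm ▸ hx2) (Finset.sum_le_sum fun φ _ => Nat.le_self_pow two_ne_zero _)
      simp only [hexp] at hsq
      rw [Finset.sum_comm, ← Finset.add_sum_erase _ _ (Finset.mem_univ ι), ← hs,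
        Finset.sum_eq_zero (s := s) fun φ hφ => ?_] at hsq
      · rw [ha1] at hsq
        simp only [Nat.cast_one, one_mul, ι, DegreeTools.coe_oneChar, Finset.sum_const, Finset.card_univ,
          nsmul_eq_mul, mul_one, add_zero, ← Nat.card_eq_fintype_card] at hsq
        have hq0 : (q : ℂ) ≠ 0 := Nat.cast_ne_zero.2 (by omega)
        have h3 : (1 : ℕ) = ∑ φ, μ φ ^ 2 := by
          apply Nat.cast_injective (R := ℂ)
          rw [Nat.cast_one]
          exact ((mul_eq_left₀ hq0).1 hsq.symm).symm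
        omega
      · rcases Nat.eq_zero_or_pos (a φ) with h0 | h0
        · simp [h0]
        · rw [← Finset.mul_sum, hno φ hφ h0, mul_zero]
    exact false_of_aut_one D hm1 (hne φ hφ) (hmv φ hφ) hφz (hdeg φ hφ hapos)
  have e2 : ∑ φ, a φ * M1 P φ = ∑ η : IrrCharacter (cen P), co χ η ^ 2 := by
    apply Nat.cast_injective (R := ℂ)
    have h := sum_normSq_cen (P := P) χ
    simp only [hexp] at h
    rw [Finset.sum_comm] at h
    simp only [← Finset.mul_sum, sum_cen] at h
    rw [Nat.cast_sum]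
    refine mul_left_cancel₀ (Char.card_ne_zero (G := cen P)) ?_
    rw [← h, Finset.mul_sum]
    exact Finset.sum_congr rfl fun φ _ => by push_cast; ring
  have hι1 : M1 P ι = 1 := by
    apply Nat.cast_injective (R := ℂ)
    have h := sum_cen (P := P) ι
    simp only [ι, DegreeTools.coe_oneChar, Finset.sum_const, Finset.card_univ, nsmul_eq_mul, mul_one,
      ← Nat.card_eq_fintype_card] at h
    rw [Nat.cast_one]
    exact (mul_eq_left₀ Char.card_ne_zero).1 h.symm
  rw [← Finset.add_sum_erase _ _ (Finset.mem_univ ι), ha1, one_mul, hι1, ← hs] at e2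
  have hsumM : D.aut - 1 ≤ ∑ φ ∈ s, a φ * M1 P φ := by
    have : D.aut ≤ ∑ η : IrrCharacter (cen P), co χ η ^ 2 := by
      obtain ⟨O, hO, hOpos, -⟩ := exists_family D hmove
      exact hO.trans ((card_le_sum (P := P) fun η hη => (hOpos η hη).1).trans
        ((Finset.sum_le_sum fun η _ => Nat.le_self_pow two_ne_zero _).trans
          (Finset.sum_le_sum_of_subset (Finset.subset_univ O))))
    omega
  obtain ⟨r, hr⟩ := D.aut_dvd
  have hq : D.aut * (D.aut + 1) + 1 ≤ q := by
    have h1 : D.aut * D.aut ≤ x * x := Nat.mul_le_mul hmx hmx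
    have h2 : D.aut * D.aut < D.aut * r := by omega
    have h3 : D.aut + 1 ≤ r := Nat.lt_of_mul_lt_mul_left h2
    have := Nat.mul_le_mul_left D.aut h3
    omega
  rcases Nat.lt_or_ge D.aut 3 with hm3 | hm3
  · obtain ⟨φ, hφ, hpos⟩ := Finset.exists_ne_zero_of_sum_ne_zero
      (show ∑ φ ∈ s, a φ * M1 P φ ≠ 0 by omega)
    have hd := hdeg φ hφ (Nat.pos_of_ne_zero fun h => hpos (by rw [h, zero_mul]))
    refine false_of_principal D hm hq (hne φ hφ) (Nat.pos_of_ne_zero fun h => hpos (by rw [h, mul_zero]))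
      (hmv φ hφ) ?_
    by_cases h9 : 9 ≤ q
    · exact Or.inr ⟨by omega, hd, h9⟩
    · have hx22 : x = 2 := by
        rcases Nat.lt_or_ge x 3 with h | h
        · omega
        · have := Nat.mul_le_mul h h
          omega
      have := Finset.single_le_sum (f := fun φ => a φ * charDegree (φ : G → ℂ)) (fun _ _ => Nat.zero_le _) hφ
      have h2 := Nat.le_mul_of_pos_left (charDegree (φ : G → ℂ))
        (Nat.pos_of_ne_zero fun h => hpos (by rw [h, zero_mul]) : 0 < a φ)
      rw [hx22] at e1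
      have hm2 : D.aut = 2 := by omega
      rw [hm2] at hq ⊢
      left
      omega
  -- the automizer has order at least three
  by_cases hbig : ∃ φ ∈ s, 0 < a φ ∧ D.aut - 1 ≤ M1 P φ
  · obtain ⟨φ, hφ, hpos, hM⟩ := hbig
    exact false_of_multiple D hm3 (hne φ hφ) hM (hdeg φ hφ hpos)
  push Not at hbig
  by_cases hsmall : ∃ φ ∈ s, 0 < a φ ∧ 0 < M1 P φ ∧ 2 * charDegree (φ : G → ℂ) + 3 ≤ q
  · obtain ⟨φ, hφ, hpos, hM, h2D⟩ := hsmall
    have : D.aut * 2 ≤ D.aut * (D.aut + 1) := Nat.mul_le_mul_left _ (by omega)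
    exact false_of_principal D hm hq (hne φ hφ) hM (hmv φ hφ) (Or.inl (by omega))
  push Not at hsmall
  -- at most one constituent carries principal constituents
  set t := s.filter fun φ => 0 < M1 P φ
  have hA : (∑ φ ∈ t, a φ) * (q - 2) ≤ 2 * ∑ φ ∈ s, a φ * charDegree (φ : G → ℂ) := by
    rw [Finset.sum_mul, Finset.mul_sum]
    refine (Finset.sum_le_sum fun φ hφ => ?_).trans (Finset.sum_le_sum_of_subset (Finset.filter_subset _ s))
    obtain ⟨hφs, hM⟩ := Finset.mem_filter.1 hφ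
    rcases Nat.eq_zero_or_pos (a φ) with h0 | h0
    · simp [h0]
    have h3 := hsmall φ hφs h0 hM
    calc a φ * (q - 2) ≤ a φ * (2 * charDegree (φ : G → ℂ)) := Nat.mul_le_mul_left _ (by omega)
      _ = _ := by ring
  have hA1 : ∑ φ ∈ t, a φ ≤ 1 := by
    by_contra h
    have := Nat.mul_le_mul_right (q - 2) (not_le.1 h)
    omega
  have hle : ∑ φ ∈ s, a φ * M1 P φ ≤ (∑ φ ∈ t, a φ) * (D.aut - 2) := by
    rw [Finset.sum_mul, ← Finset.sum_filter_of_ne (p := fun φ => 0 < M1 P φ)
      (fun φ _ h => Nat.pos_of_ne_zero fun h0 => h (by rw [h0, mul_zero]))]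
    refine Finset.sum_le_sum fun φ hφ => ?_
    rcases Nat.eq_zero_or_pos (a φ) with h0 | h0
    · simp [h0]
    exact Nat.mul_le_mul_left _ (by have := hbig φ (Finset.mem_filter.1 hφ).1 h0; omega)
  have := hle.trans (Nat.mul_le_mul_right _ hA1)
  omega

end CfsgLib.CharDeep.FrobDeg
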