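import Cfsg.Agent.Lib.Blocks.TIAbelian
import Cfsg.Agent.Lib.Blocks.PrimeOrderBlock
import Cfsg.Agent.Lib.CharDeep.CentralTrick
import Cfsg.Agent.Lib.DegreeTools.Basic

/-!
# A Sylow subgroup whose nontrivial elements share one centralizer
-/

set_option autoImplicit false

namespace CfsgLib.CharDeep.FrobDeg

open Cfsg CfsgLib CfsgLib.Blocks
open scoped Classical ComplexConjugate

variable {G : Type*} [Group G] [Fintype G] {p : ℕ} [hp : Fact p.Prime]

/-- The centralizer of `P`. -/
abbrev cen (P : Sylow p G) : Subgroup G := Subgroup.centralizer ((P : Subgroup G) : Set G)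

/-- The normalizer of `P`. -/
abbrev nor (P : Sylow p G) : Subgroup G := Subgroup.normalizer ((P : Subgroup G) : Set G)

/-- The hypothesis, with the complement of `P` in its centralizer. -/
structure Setting (P : Sylow p G) where
  frob : TIAbelian.FrobSylow P
  star : ∀ x ∈ (P : Subgroup G), x ≠ 1 → Subgroup.centralizer ({x} : Set G) = cen P
  ne_bot : ∃ x ∈ (P : Subgroup G), x ≠ 1
  V : Subgroup G
  le : V ≤ cen P
  mem : ∀ y ∈ cen P, (y ∈ V ↔ ¬ p ∣ orderOf y)
  decomp : ∀ c ∈ cen P, ∃ z ∈ (P : Subgroup G), ∃ v ∈ V, c = z * v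

theorem exists_setting (P : Sylow p G) (hne : ∃ x ∈ (P : Subgroup G), x ≠ 1)
    (hstar : ∀ x ∈ (P : Subgroup G), x ≠ 1 → Subgroup.centralizer ({x} : Set G) = cen P) :
    Nonempty (Setting P) := by
  have hcomm : ∀ x ∈ (P : Subgroup G), ∀ y ∈ (P : Subgroup G), x * y = y * x := by
    intro x hx y hy
    by_cases hx1 : x = 1
    · simp [hx1]
    have h : x ∈ Subgroup.centralizer ({x} : Set G) := Subgroup.mem_centralizer_singleton_iff.2 rfl
    rw [hstar x hx hx1] at h
    exact (Subgroup.mem_centralizer_iff.1 h y hy).symm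
  have hfrob : TIAbelian.FrobSylow P := ⟨hcomm, fun y hy hy1 => inf_le_left.trans (hstar y hy hy1).le⟩
  obtain ⟨x, hx, hx1⟩ := hne
  set C := Subgroup.centralizer ({x} : Set G) with hC
  have hCeq : C = cen P := hstar x hx hx1
  have hcop := CfsgLib.Fusion.Basic.npc_iff_coprime.mp (hfrob.npc_centralizer hx hx1)
  set R := (Cfsg.pResidual p C).map C.subtype with hR
  have hRcard : ¬ p ∣ Nat.card R := by
    rw [hR, Subgroup.card_map_of_injective C.subtype_injective]
    exact (Nat.Prime.coprime_iff_not_dvd hp.out).mp hcop.symm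
  have hRle : R ≤ cen P := hCeq ▸ Subgroup.map_subtype_le _
  have hmem : ∀ y ∈ cen P, (y ∈ R ↔ ¬ p ∣ orderOf y) := by
    intro y hy
    refine ⟨fun h hd => hRcard (hd.trans (Subgroup.orderOf_dvd_natCard R h)), fun h => ?_⟩
    refine ⟨⟨y, hCeq ▸ hy⟩, CfsgLib.Fusion.Basic.mem_pResidual_of_coprime ?_, rfl⟩
    rw [Subgroup.orderOf_mk]
    exact ((Nat.Prime.coprime_iff_not_dvd hp.out).mpr h).symm
  refine ⟨⟨hfrob, hstar, ⟨x, hx, hx1⟩, R, hRle, hmem, fun c hc => ?_⟩⟩
  obtain ⟨z, v, -, hzv, hcomm', hreg, ⟨k, hk⟩, hz1, -⟩ := exists_isPPart (G := G) hp.out c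
  have hzC : z ∈ cen P := by
    obtain ⟨i, rfl⟩ := hz1
    exact zpow_mem hc i
  have hvC : v ∈ cen P := by
    have : v = z⁻¹ * c := by rw [← hzv, inv_mul_cancel_left]
    rw [this]
    exact mul_mem (inv_mem hzC) hc
  have hzp : IsPGroup p (Subgroup.zpowers z) := IsPGroup.of_card (n := k) (by rw [Nat.card_zpowers, hk])
  have hzP : z ∈ (P : Subgroup G) :=
    (P.3 (IsPGroup.to_sup_of_normal_right' hzp P.2
      (Subgroup.zpowers_le.2 (Subgroup.centralizer_le_normalizer _ hzC))) le_sup_right).le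
      ((le_sup_left : Subgroup.zpowers z ≤ _) (Subgroup.mem_zpowers z))
  exact ⟨z, hzP, v, (hmem v hvC).2 hreg, hzv.symm⟩

namespace Setting

variable {P : Sylow p G} (D : Setting P)

theorem P_le_cen (D : Setting P) : (P : Subgroup G) ≤ cen P := fun y hy =>
  Subgroup.mem_centralizer_iff.2 fun z hz => D.frob.comm z hz y hy

theorem eq_one_of_mem {z : G} (hz : z ∈ (P : Subgroup G)) (hzV : z ∈ D.V) : z = 1 := by
  obtain ⟨k, hk⟩ := IsPGroup.iff_orderOf.1 P.2 ⟨z, hz⟩
  rw [Subgroup.orderOf_mk] at hk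
  have h := (D.mem z (D.le hzV)).1 hzV
  rw [hk] at h
  rcases Nat.eq_zero_or_pos k with rfl | hk0
  · rwa [pow_zero, orderOf_eq_one_iff] at hk
  · exact absurd (dvd_pow_self p hk0.ne') h

/-- The complement inside the centralizer. -/
abbrev Vc : Subgroup (cen P) := D.V.subgroupOf (cen P)

theorem bij : Function.Bijective fun q : ↥(P : Subgroup G) × ↥D.V =>
    (⟨(q.1 : G) * (q.2 : G), mul_mem (D.P_le_cen q.1.2) (D.le q.2.2)⟩ : cen P) := by
  constructor
  · rintro ⟨z, v⟩ ⟨z', v'⟩ h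
    have h' : (z : G) * v = z' * v' := congrArg Subtype.val h
    have e : (z' : G)⁻¹ * z = v' * (v : G)⁻¹ := by
      calc (z' : G)⁻¹ * z = (z' : G)⁻¹ * ((z : G) * v) * (v : G)⁻¹ := by group
        _ = _ := by rw [h']; group
    have h1 : (z' : G)⁻¹ * z = 1 := D.eq_one_of_mem (mul_mem (inv_mem z'.2) z.2)
      (e ▸ mul_mem v'.2 (inv_mem v.2))
    have hz : z = z' := Subtype.ext (inv_mul_eq_one.1 h1).symm
    subst hz
    exact Prod.ext rfl (Subtype.ext (mul_left_cancel h'))
  · intro c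
    obtain ⟨z, hz, v, hv, e⟩ := D.decomp c c.2
    exact ⟨(⟨z, hz⟩, ⟨v, hv⟩), Subtype.ext e.symm⟩

/-- The product decomposition of the centralizer. -/
noncomputable def coord : ↥(P : Subgroup G) × ↥D.V ≃ cen P := Equiv.ofBijective _ D.bij

theorem coe_coord (z : (P : Subgroup G)) (v : D.V) : (D.coord (z, v) : G) = (z : G) * v := rfl

/-- `P` inside the centralizer. -/
def zC (D : Setting P) (z : (P : Subgroup G)) : cen P := ⟨z, D.P_le_cen z.2⟩

theorem zC_central (z : (P : Subgroup G)) : D.zC z ∈ Subgroup.center (cen P) :=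
  Subgroup.mem_center_iff.2 fun c => Subtype.ext (Subgroup.mem_centralizer_iff.1 c.2 z z.2).symm

theorem card_cen : Nat.card (cen P) = Nat.card P * Nat.card D.Vc := by
  rw [Nat.card_congr (Subgroup.subgroupOfEquivOfLe D.le).toEquiv, ← Nat.card_congr D.coord, Nat.card_prod]

/-- Two singular elements of the centralizer are conjugate only in the normalizer. -/
theorem mem_nor {s s₀ : G} (hs : s ∈ cen P) (hsV : s ∉ D.V) (hs₀ : s₀ ∈ cen P) {h : G}
    (he : h * s * h⁻¹ = s₀) : h ∈ nor P := by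
  obtain ⟨z, hz, v, hv, rfl⟩ := D.decomp s hs
  have hz1 : z ≠ 1 := fun e => hsV (by rwa [e, one_mul])
  obtain ⟨z₀, hz₀, v₀, hv₀, rfl⟩ := D.decomp s₀ hs₀
  have part : ∀ z ∈ (P : Subgroup G), ∀ v ∈ D.V, IsPPart p (z * v) z := by
    intro z hz v hv
    obtain ⟨k, hk⟩ := IsPGroup.iff_orderOf.1 P.2 ⟨z, hz⟩
    rw [Subgroup.orderOf_mk] at hk
    exact isPPart_mul (Subgroup.mem_centralizer_iff.1 (D.le hv) z hz) hk ((D.mem v (D.le hv)).1 hv)
  have h1 := isPPart_conj (part z hz v hv) h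
  rw [he] at h1
  have e0 : h * z * h⁻¹ = z₀ := isPPart_unique hp.out h1 (part z₀ hz₀ v₀ hv₀)
  have hz01 : z₀ ≠ 1 := fun e => hz1 (by
    rw [e] at e0
    simpa using e0)
  have hmap : ∀ y ∈ (P : Subgroup G), h * y * h⁻¹ ∈ cen P := by
    intro y hy
    rw [← D.star z₀ hz₀ hz01, Subgroup.mem_centralizer_singleton_iff, ← e0]
    have := D.frob.comm y hy z hz
    calc h * y * h⁻¹ * (h * z * h⁻¹) = h * (y * z) * h⁻¹ := by group
      _ = h * (z * y) * h⁻¹ := by rw [this]
      _ = h * z * h⁻¹ * (h * y * h⁻¹) := by group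
  have hin : (P : Subgroup G).map (MulAut.conj h).toMonoidHom ≤ (P : Subgroup G) := by
    have hle : (P : Subgroup G).map (MulAut.conj h).toMonoidHom ≤ nor P := by
      rintro _ ⟨y, hy, rfl⟩
      exact Subgroup.centralizer_le_normalizer _ (hmap y hy)
    exact le_sup_left.trans (P.3 (IsPGroup.to_sup_of_normal_right' (P.2.map _) P.2 hle) le_sup_right).le
  exact Subgroup.mem_normalizer_fintype fun y hy => hin ⟨y, hy, rfl⟩

/-- The order of the automizer. -/
noncomputable def aut (_D : Setting P) : ℕ := TIAbelian.autCard P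

theorem card_nor : Nat.card (nor P) = D.aut * Nat.card (cen P) := by
  have h := Subgroup.relIndex_mul_relIndex ⊥ (cen P) (nor P) bot_le (Subgroup.centralizer_le_normalizer _)
  rw [Subgroup.relIndex_bot_left, Subgroup.relIndex_bot_left] at h
  rw [aut, TIAbelian.autCard_eq, ← h, mul_comm]

theorem aut_pos : 0 < D.aut := D.frob.autCard_pos

theorem aut_dvd : D.aut ∣ Nat.card P - 1 := by
  set S := (Finset.univ : Finset (P : Subgroup G)).filter fun y => y ≠ 1
  have hcard : S.card = Nat.card P - 1 := by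
    rw [show S = Finset.univ.erase 1 by ext y; simp [S], Finset.card_erase_of_mem (Finset.mem_univ _),
      Finset.card_univ, ← Nat.card_eq_fintype_card]
  let cls : ↥(P : Subgroup G) → Finset ↥(P : Subgroup G) := fun x =>
    Finset.univ.filter fun y : (P : Subgroup G) => IsConj (x : G) (y : G)
  rw [← hcard, Finset.card_eq_sum_card_fiberwise (t := S.image cls) (f := cls)
    fun x hx => Finset.mem_image_of_mem _ hx]
  refine Finset.dvd_sum fun b hb => dvd_of_eq ?_
  obtain ⟨x, hx, rfl⟩ := Finset.mem_image.1 hb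
  have hx1 : (x : G) ≠ 1 := fun e => (Finset.mem_filter.1 hx).2 (Subtype.ext e)
  rw [aut, ← D.frob.card_conj_inter x.2 hx1]
  congr 1
  ext y
  simp only [Finset.mem_filter, Finset.mem_univ, true_and, cls, S]
  constructor
  · intro hy
    refine ⟨fun e => hx1 ?_, Finset.ext fun w => ?_⟩
    · rw [e] at hy
      simpa using hy
    · simp only [Finset.mem_filter, Finset.mem_univ, true_and]
      exact ⟨fun h => hy.trans h, fun h => hy.symm.trans h⟩
  · rintro ⟨-, h⟩
    have : y ∈ Finset.univ.filter fun w : ↥(P : Subgroup G) => IsConj (x : G) (w : G) := by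
      rw [← h]; exact Finset.mem_filter.2 ⟨Finset.mem_univ _, IsConj.refl _⟩
    simpa using this

end Setting

end CfsgLib.CharDeep.FrobDeg
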